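import Groth.Agent.RpushColim.Resolve
import Groth.Agent.KFlatLib.Scheme.RpushCoprod
import Groth.Agent.KFlatLib.Scheme.Grothendieck
import Groth.Agent.QcqsColim.Rpush
import Groth.Agent.QCoh.RpushAbGod
import Groth.Agent.TriCat.ColimQuasiIso
import Groth.Agent.FlatCxLib.HomologyColim

/-!
# Filtered colimits of bounded below complexes and `Rf_*`
-/

set_option backward.isDefEq.respectTransparency false
set_option backward.isDefEq.respectTransparency.types false
set_option linter.style.haveILetI false

universe u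

open CategoryTheory CategoryTheory.Limits AlgebraicGeometry

attribute [local instance] HasDerivedCategory.standard

namespace Groth.Agent.RpushColim

open Groth.Agent.KFlatLib

variable {X Y : Scheme.{u}} (f : X ⟶ Y) [QuasiCompact f] [QuasiSeparated f]
  {J : Type u} [SmallCategory J] [IsFiltered J]

/-- The direct image of modules commutes with filtered colimits. -/
theorem preservesColimitsOfShape_push :
    PreservesColimitsOfShape J (Scheme.Modules.pushforward f) := by
  haveI := QCoh.preservesFiniteLimits_pushAb f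
  haveI := QcqsColim.preservesColimitsOfShape_RpushAb f 0 J
  haveI : PreservesColimitsOfShape J (Coh.pushAb f) :=
    preservesColimitsOfShape_of_natIso ((Coh.pushAb f).rightDerivedZeroIsoSelf :
      Coh.RpushAb f 0 ≅ Coh.pushAb f)
  haveI : PreservesColimitsOfShape J (Scheme.Modules.pushforward f ⋙ KFlatLib.toAb Y) :=
    preservesColimitsOfShape_of_natIso (NatIso.ofComponents (fun _ => Iso.refl _) (fun _ => rfl) :
      KFlatLib.toAb X ⋙ Coh.pushAb f ≅ Scheme.Modules.pushforward f ⋙ KFlatLib.toAb Y)
  haveI : ReflectsColimitsOfShape J (KFlatLib.toAb Y) :=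
    reflectsColimitsOfShape_of_reflectsIsomorphisms
  exact preservesColimitsOfShape_of_reflects_of_preserves _ (KFlatLib.toAb Y)

/-- A filtered colimit of injective modules is acyclic. -/
theorem isRightAcyclic_colimit [HasInjectiveResolutions X.Modules] (D : J ⥤ X.Modules)
    (hD : ∀ j, Injective (D.obj j)) (c : Cocone D) (hc : IsColimit c) :
    TriCat.IsRightAcyclic (Scheme.Modules.pushforward f) c.pt := by
  haveI := SpObjSS.enoughInjectives_of_hasInjectiveResolutions (C := X.Modules)
  haveI := QCoh.preservesFiniteLimits_push f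
  intro i hi
  obtain ⟨q, rfl⟩ := Nat.exists_eq_succ_of_ne_zero (by omega : i ≠ 0)
  haveI := QcqsColim.preservesColimitsOfShape_RpushAb f (q + 1) J
  let F := KFlatLib.toAb X ⋙ Coh.RpushAb f (q + 1)
  have hj : ∀ j, IsZero (F.obj (D.obj j)) := fun j => by
    obtain ⟨e⟩ := QCoh.nonempty_RpushAb_iso f (D.obj j) q
    obtain ⟨e'⟩ := QCoh.nonempty_Rpush_iso f (D.obj j) q
    haveI := hD j
    exact ((KFlatLib.toAb Y).map_isZero
      ((TriCat.isRightAcyclic_of_injective (F := Scheme.Modules.pushforward f) (D.obj j)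
        (q + 1) (by omega)).of_iso e'.symm)).of_iso e
  have h0 : IsZero (F.obj c.pt) := (IsZero.iff_id_eq_zero _).2
    ((isColimitOfPreserves F hc).hom_ext fun j => (hj j).eq_of_src _ _)
  obtain ⟨e⟩ := QCoh.nonempty_RpushAb_iso f c.pt q
  obtain ⟨e'⟩ := QCoh.nonempty_Rpush_iso f c.pt q
  refine IsZero.of_iso ?_ e'
  refine (IsZero.iff_id_eq_zero _).2 ((KFlatLib.toAb Y).map_injective ?_)
  exact (h0.of_iso e.symm).eq_of_src _ _

variable [DCoh.HasRpush f] [HasInjectiveResolutions X.Modules]

/-- `H^i ∘ Rf_*` commutes with uniformly bounded below filtered colimits of complexes. -/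
theorem nonempty_isColimit (C : J ⥤ CochainComplex X.Modules ℤ) (c : Cocone C) (hc : IsColimit c)
    (n : ℤ) (hC : ∀ j, (C.obj j).IsGE n) (i : ℤ) :
    Nonempty (IsColimit ((DerivedCategory.Q ⋙ DCoh.Rpush f ⋙
      DerivedCategory.homologyFunctor Y.Modules i).mapCocone c)) := by
  obtain ⟨K, α, hK⟩ := exists_resolution C n hC
  let G := DerivedCategory.Q ⋙ DCoh.Rpush f ⋙ DerivedCategory.homologyFunctor Y.Modules i
  let P := (Scheme.Modules.pushforward f).mapHomologicalComplex (ComplexShape.up ℤ)
  haveI := preservesColimitsOfShape_push f (J := J)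
  haveI : PreservesColimitsOfShape J P :=
    ⟨fun {E} => ⟨fun {d} hd => ⟨HomologicalComplex.isColimitOfEval _ _ fun m =>
      isColimitOfPreserves (HomologicalComplex.eval X.Modules (ComplexShape.up ℤ) m ⋙
        Scheme.Modules.pushforward f) hd⟩⟩⟩
  let d := colimit.cocone K
  let φ : c.pt ⟶ d.pt := hc.map d α
  have hφq : QuasiIso φ := TriCat.quasiIso_of_isColimit hc (colimit.isColimit K) α
    (fun j => (hK j).1) φ fun j => hc.ι_map d α j
  have hcpt : d.pt.IsStrictlyGE n := (CochainComplex.isStrictlyGE_iff _ n).2 fun m hm =>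
    (IsZero.iff_id_eq_zero _).2
      ((isColimitOfPreserves (HomologicalComplex.eval X.Modules (ComplexShape.up ℤ) m)
        (colimit.isColimit K)).hom_ext fun j => by
          haveI := (hK j).2.1
          exact (CochainComplex.isZero_of_isStrictlyGE (K.obj j) n m hm).eq_of_src _ _)
  have hη : IsIso ((rpushUnit f).app d.pt) :=
    haveI := hcpt
    isIso_rpushUnit_of_isStrictlyGE f d.pt n fun m =>
      isRightAcyclic_colimit f (K ⋙ HomologicalComplex.eval X.Modules (ComplexShape.up ℤ) m)
        (fun j => (hK j).2.2 m) _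
        (isColimitOfPreserves (HomologicalComplex.eval X.Modules (ComplexShape.up ℤ) m)
          (colimit.isColimit K))
  have hηj : ∀ j, IsIso ((rpushUnit f).app (K.obj j)) := fun j => by
    haveI := (hK j).2.1
    haveI : ∀ m, Injective ((K.obj j).X m) := (hK j).2.2
    haveI : (K.obj j).IsKInjective := CochainComplex.isKInjective_of_injective _ n
    exact isIso_rpushUnit_of_kInjective f (K.obj j)
  let H := DerivedCategory.homologyFunctor Y.Modules i
  let P' := P ⋙ HomologicalComplex.homologyFunctor Y.Modules (ComplexShape.up ℤ) i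
  haveI : PreservesColimitsOfShape J
      (HomologicalComplex.homologyFunctor Y.Modules (ComplexShape.up ℤ) i) :=
    FlatCxLib.preservesColimitsOfShape_complexHomology (ComplexShape.up ℤ) i
  have hP' : IsColimit ((P ⋙ DerivedCategory.Q ⋙ H).mapCocone d) :=
    haveI : PreservesColimitsOfShape J (P ⋙ DerivedCategory.Q ⋙ H) :=
      preservesColimitsOfShape_of_natIso (Functor.isoWhiskerLeft P
        (DerivedCategory.homologyFunctorFactors Y.Modules i)).symm
    isColimitOfPreserves _ (colimit.isColimit K)
  let η : P ⋙ DerivedCategory.Q ⋙ H ⟶ G :=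
    Functor.whiskerRight (rpushUnit f) H
  haveI : ∀ j, IsIso (η.app (K.obj j)) := fun j => by
    haveI := hηj j
    exact inferInstanceAs (IsIso (H.map ((rpushUnit f).app (K.obj j))))
  haveI : IsIso (η.app d.pt) := by
    haveI := hη
    exact inferInstanceAs (IsIso (H.map ((rpushUnit f).app d.pt)))
  let e : K ⋙ P ⋙ DerivedCategory.Q ⋙ H ≅ K ⋙ G :=
    NatIso.ofComponents (fun j => asIso (η.app (K.obj j))) fun g => η.naturality (K.map g)
  have hG : IsColimit (G.mapCocone d) :=
    IsColimit.equivOfNatIsoOfIso e ((P ⋙ DerivedCategory.Q ⋙ H).mapCocone d) (G.mapCocone d)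
      (Cocone.ext (asIso (η.app d.pt)) fun j => by
        change (inv (η.app (K.obj j)) ≫ _) ≫ η.app d.pt = _
        rw [Category.assoc, IsIso.inv_comp_eq]
        exact η.naturality _) hP'
  haveI : ∀ j, IsIso (G.map (α.app j)) := fun j => by
    haveI := (hK j).1
    haveI : IsIso (DerivedCategory.Q.map (α.app j)) := inferInstance
    exact inferInstanceAs (IsIso (H.map ((DCoh.Rpush f).map (DerivedCategory.Q.map (α.app j)))))
  haveI : IsIso (G.map φ) := by
    haveI : IsIso (DerivedCategory.Q.map φ) := inferInstance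
    exact inferInstanceAs (IsIso (H.map ((DCoh.Rpush f).map (DerivedCategory.Q.map φ))))
  let e' : C ⋙ G ≅ K ⋙ G :=
    NatIso.ofComponents (fun j => asIso (G.map (α.app j))) fun g => by
      change G.map _ ≫ G.map _ = G.map _ ≫ G.map _
      rw [← G.map_comp, ← G.map_comp, α.naturality]
  refine ⟨IsColimit.equivOfNatIsoOfIso e'.symm (G.mapCocone d) (G.mapCocone c)
    (Cocone.ext (asIso (G.map φ)).symm fun j => ?_) hG⟩
  change (G.map (α.app j) ≫ G.map (d.ι.app j)) ≫ inv (G.map φ) = G.map (c.ι.app j)
  rw [IsIso.comp_inv_eq, ← G.map_comp, ← G.map_comp]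
  exact congrArg G.map (hc.ι_map d α j).symm

/-- A uniformly bounded below filtered colimit of complexes computing `Rf_*` computes `Rf_*`. -/
theorem isIso_rpushUnit_colimit (C : J ⥤ CochainComplex X.Modules ℤ) (c : Cocone C) (hc : IsColimit c)
    (n : ℤ) (hC : ∀ j, (C.obj j).IsGE n) (h : ∀ j, IsIso ((rpushUnit f).app (C.obj j))) :
    IsIso ((rpushUnit f).app c.pt) := by
  refine (DerivedCategory.isIso_iff _ _).2 fun i => ?_
  let H := DerivedCategory.homologyFunctor Y.Modules i
  let P := (Scheme.Modules.pushforward f).mapHomologicalComplex (ComplexShape.up ℤ)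
  let G := DerivedCategory.Q ⋙ DCoh.Rpush f ⋙ H
  haveI := preservesColimitsOfShape_push f (J := J)
  haveI : PreservesColimitsOfShape J P :=
    ⟨fun {E} => ⟨fun {d} hd => ⟨HomologicalComplex.isColimitOfEval _ _ fun m =>
      isColimitOfPreserves (HomologicalComplex.eval X.Modules (ComplexShape.up ℤ) m ⋙
        Scheme.Modules.pushforward f) hd⟩⟩⟩
  haveI : PreservesColimitsOfShape J
      (HomologicalComplex.homologyFunctor Y.Modules (ComplexShape.up ℤ) i) :=
    FlatCxLib.preservesColimitsOfShape_complexHomology (ComplexShape.up ℤ) i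
  haveI : PreservesColimitsOfShape J (P ⋙ DerivedCategory.Q ⋙ H) :=
    preservesColimitsOfShape_of_natIso (Functor.isoWhiskerLeft P
      (DerivedCategory.homologyFunctorFactors Y.Modules i)).symm
  obtain ⟨hG⟩ := nonempty_isColimit f C c hc n hC i
  let η : P ⋙ DerivedCategory.Q ⋙ H ⟶ G := Functor.whiskerRight (rpushUnit f) H
  haveI : ∀ j, IsIso (η.app (C.obj j)) := fun j => by
    haveI := h j
    exact inferInstanceAs (IsIso (H.map ((rpushUnit f).app (C.obj j))))
  let e : C ⋙ P ⋙ DerivedCategory.Q ⋙ H ≅ C ⋙ G :=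
    NatIso.ofComponents (fun j => asIso (η.app (C.obj j))) fun g => η.naturality (C.map g)
  have hP := isColimitOfPreserves (P ⋙ DerivedCategory.Q ⋙ H) hc
  let ε := hP.coconePointsIsoOfNatIso hG e
  suffices η.app c.pt = ε.hom by
    change IsIso (η.app c.pt)
    rw [this]
    infer_instance
  refine hP.hom_ext fun j => ?_
  exact (η.naturality _).trans (hP.comp_coconePointsIsoOfNatIso_hom hG e j).symm

end Groth.Agent.RpushColim
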