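import Groth.Agent.RpushColim.Main
import Groth.Agent.KFlatLib.Scheme.RpushCoprodQCoh
import Groth.Agent.KFlatLib.Scheme.QCohDevissage

/-!
# Filtered colimits of complexes with quasi-coherent cohomology and `Rf_*`
-/

set_option backward.isDefEq.respectTransparency false
set_option backward.isDefEq.respectTransparency.types false
set_option linter.style.haveILetI false

universe u v v' u'

open CategoryTheory CategoryTheory.Limits AlgebraicGeometry

attribute [local instance] HasDerivedCategory.standard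

namespace Groth.Agent.RpushColim

open Groth.Agent.KFlatLib

lemma isIso_hc_map {J : Type*} [Category J] {B : Type u'} [Category.{v'} B] {F G : J ⥤ B}
    {c : Cocone F} (hc : IsColimit c) (d : Cocone G) (hd : IsColimit d) (α : F ⟶ G)
    [∀ j, IsIso (α.app j)] (φ : c.pt ⟶ d.pt) (hφ : ∀ j, c.ι.app j ≫ φ = α.app j ≫ d.ι.app j) :
    IsIso φ := by
  haveI : IsIso α := NatIso.isIso_of_isIso_app α
  let ε := hc.coconePointsIsoOfNatIso hd (asIso α)
  have : φ = ε.hom := hc.hom_ext fun j =>
    (hφ j).trans (hc.comp_coconePointsIsoOfNatIso_hom hd (asIso α) j).symm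
  rw [this]
  infer_instance

variable {X Y : Scheme.{u}} (f : X ⟶ Y) [QuasiCompact f] [QuasiSeparated f] [DCoh.HasRpush f]
  [HasInjectiveResolutions X.Modules] {J : Type u} [SmallCategory J] [IsFiltered J]

/-- `H^i ∘ Rf_*` commutes with filtered colimits of complexes with quasi-coherent cohomology. -/
theorem nonempty_isColimit_qcoh (C : J ⥤ CochainComplex X.Modules ℤ) (c : Cocone C) (hc : IsColimit c)
    (hC : ∀ j, DCoh.IsQCohD (DerivedCategory.Q.obj (C.obj j))) (k : ℤ) :
    Nonempty (IsColimit ((DerivedCategory.Q ⋙ DCoh.Rpush f ⋙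
      DerivedCategory.homologyFunctor Y.Modules k).mapCocone c)) := by
  let G := DerivedCategory.Q ⋙ DCoh.Rpush f ⋙ DerivedCategory.homologyFunctor Y.Modules k
  let χ : colimit (C ⋙ G) ⟶ G.obj c.pt := colimit.desc _ (G.mapCocone c)
  suffices hiso : IsIso χ by
    exact ⟨IsColimit.ofIsoColimit (colimit.isColimit _) (Cocone.ext (asIso χ) fun j => colimit.ι_desc _ j)⟩
  refine isIso_of_isIso_restrict χ fun y => ?_
  obtain ⟨_, ⟨U, hU, rfl⟩, hyU, -⟩ :=
    Y.isBasis_affineOpens.exists_subset_of_mem_open (Set.mem_univ y) isOpen_univ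
  refine ⟨U, hyU, ?_⟩
  obtain ⟨N₀, hN⟩ := exists_Rpush_bound_near f hU
  let N := k.natAbs + N₀ + 2
  let e := ComplexShape.embeddingUpIntGE (-(N : ℤ))
  let C' := C ⋙ e.truncGEFunctor X.Modules
  let β : C ⟶ C' := Functor.whiskerLeft C (e.πTruncGENatTrans X.Modules)
  let c' := colimit.cocone C'
  let φ : c.pt ⟶ c'.pt := hc.map c' β
  have hGE : ∀ j, CochainComplex.IsGE (C'.obj j) (-(N : ℤ)) := fun j => by
    haveI : CochainComplex.IsStrictlyGE (C'.obj j) (-(N : ℤ)) :=
      inferInstanceAs ((HomologicalComplex.truncGE (C.obj j) e).IsStrictlySupported e)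
    infer_instance
  have hh : ∀ j (i : ℤ), -(N : ℤ) ≤ i →
      IsIso ((HomologicalComplex.homologyFunctor X.Modules (ComplexShape.up ℤ) i).map (β.app j)) := by
    intro j i hi
    obtain ⟨m, rfl⟩ := Int.le.dest hi
    exact (quasiIsoAt_iff_isIso_homologyMap _ _).1
      (HomologicalComplex.quasiIsoAt_πTruncGE (C.obj j) e (j := m) (by simp [e, ComplexShape.embeddingUpIntGE]))
  haveI : ∀ i : ℤ, PreservesColimitsOfShape J
      (HomologicalComplex.homologyFunctor X.Modules (ComplexShape.up ℤ) i) := fun i =>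
    FlatCxLib.preservesColimitsOfShape_complexHomology (ComplexShape.up ℤ) i
  let Hc := fun i : ℤ => HomologicalComplex.homologyFunctor X.Modules (ComplexShape.up ℤ) i
  have hφ : ∀ i : ℤ, -(N : ℤ) ≤ i →
      IsIso ((DerivedCategory.homologyFunctor X.Modules i).map (DerivedCategory.Q.map φ)) := fun i hi => by
    haveI : ∀ j, IsIso ((Functor.whiskerRight β (Hc i)).app j) := fun j => hh j i hi
    haveI : IsIso ((Hc i).map φ) := isIso_hc_map (isColimitOfPreserves (Hc i) hc)
      ((Hc i).mapCocone c') (isColimitOfPreserves (Hc i) (colimit.isColimit C'))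
      (Functor.whiskerRight β (Hc i)) _ fun j => by
        change (Hc i).map _ ≫ (Hc i).map _ = (Hc i).map _ ≫ (Hc i).map _
        rw [← Functor.map_comp, ← Functor.map_comp, hc.ι_map]
    exact (NatIso.isIso_map_iff (DerivedCategory.homologyFunctorFactors X.Modules i) φ).2 inferInstance
  have hQC : ∀ (E : J ⥤ CochainComplex X.Modules ℤ) (d : Cocone E), IsColimit d →
      (∀ j, DCoh.IsQCohD (DerivedCategory.Q.obj (E.obj j))) →
      DCoh.IsQCohD (DerivedCategory.Q.obj d.pt) := fun E d hd hE i => by
    refine isQCoh_of_iso (((DerivedCategory.homologyFunctorFactors X.Modules i).app d.pt).symm) ?_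
    exact isQCoh_of_iso ((colimit.isColimit _).coconePointUniqueUpToIso
      (isColimitOfPreserves (Hc i) hd)) (QCoh.isQCoh_colimit _ fun j =>
        isQCoh_of_iso ((DerivedCategory.homologyFunctorFactors X.Modules i).app (E.obj j)) (hE j i))
  have hC' : ∀ j, DCoh.IsQCohD (DerivedCategory.Q.obj (C'.obj j)) := fun j i => by
    by_cases hi : -(N : ℤ) ≤ i
    · haveI : IsIso ((Hc i).map (β.app j)) := hh j i hi
      exact isQCoh_of_iso ((DerivedCategory.homologyFunctorFactors X.Modules i).app (C.obj j) ≪≫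
        asIso ((Hc i).map (β.app j)) ≪≫
        ((DerivedCategory.homologyFunctorFactors X.Modules i).app (C'.obj j)).symm) (hC j i)
    · haveI := hGE j
      refine isQCoh_of_isZero ?_
      exact ((HomologicalComplex.exactAt_iff_isZero_homology _ _).1
        (CochainComplex.exactAt_of_isGE (C'.obj j) (-(N : ℤ)) i (by omega))).of_iso
          ((DerivedCategory.homologyFunctorFactors X.Modules i).app (C'.obj j))
  obtain ⟨hG'⟩ := nonempty_isColimit f C' c' (colimit.isColimit C') (-(N : ℤ)) hGE k
  let R := Scheme.Modules.restrictFunctor (Scheme.Opens.ι (X := Y) U)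
  haveI : R.IsLeftAdjoint := (Scheme.Modules.restrictAdjunction _).isLeftAdjoint
  haveI : IsIso (R.map (G.map φ)) := isIso_restrict_rpush_of_isIso_h f
    (hQC C c hc hC) (hQC C' c' (colimit.isColimit C') hC') (DerivedCategory.Q.map φ) U N₀ hN k N le_rfl hφ
  haveI : ∀ j, IsIso ((Functor.whiskerRight β (G ⋙ R)).app j) := fun j =>
    isIso_restrict_rpush_of_isIso_h f (hC j) (hC' j) (DerivedCategory.Q.map (β.app j)) U N₀ hN k N le_rfl
      fun i hi => (NatIso.isIso_map_iff (DerivedCategory.homologyFunctorFactors X.Modules i) _).2 (hh j i hi)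
  let χ' : colimit (C' ⋙ G) ⟶ G.obj c'.pt := colimit.desc _ (G.mapCocone c')
  haveI : IsIso χ' := by
    have : χ' = ((colimit.isColimit _).coconePointUniqueUpToIso hG').hom := colimit.hom_ext fun j => by
      rw [colimit.ι_desc]
      exact ((colimit.isColimit _).comp_coconePointUniqueUpToIso_hom hG' j).symm
    rw [this]
    infer_instance
  let B : colimit (C ⋙ G) ⟶ colimit (C' ⋙ G) := colimMap (Functor.whiskerRight β G)
  haveI : IsIso (R.map B) :=
    isIso_hc_map (isColimitOfPreserves R (colimit.isColimit (C ⋙ G))) (R.mapCocone (colimit.cocone (C' ⋙ G)))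
      (isColimitOfPreserves R (colimit.isColimit (C' ⋙ G))) (Functor.whiskerRight β (G ⋙ R)) _ fun j => by
        change R.map _ ≫ R.map _ = R.map (G.map (β.app j)) ≫ R.map _
        rw [← R.map_comp, ← R.map_comp]
        exact congrArg R.map (ι_colimMap (Functor.whiskerRight β G) j)
  have hsq : χ ≫ G.map φ = B ≫ χ' := colimit.hom_ext fun j => by
    rw [colimit.ι_desc_assoc, ι_colimMap_assoc, colimit.ι_desc]
    change G.map _ ≫ G.map _ = G.map _ ≫ G.map _
    rw [← G.map_comp, ← G.map_comp, hc.ι_map]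
  have : IsIso (R.map χ ≫ R.map (G.map φ)) := by
    rw [← R.map_comp, hsq, R.map_comp]
    infer_instance
  exact IsIso.of_isIso_comp_right (R.map χ) (R.map (G.map φ))

end Groth.Agent.RpushColim
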