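import Groth.Agent.TriCat.Resolve
import Mathlib.Algebra.Homology.Functor
import Mathlib.Algebra.Homology.Embedding.CochainComplex
import Mathlib.CategoryTheory.Adjunction.Evaluation
import Mathlib.CategoryTheory.Abelian.GrothendieckAxioms.FunctorCategory
import Mathlib.CategoryTheory.Generator.Presheaf
import Mathlib.CategoryTheory.Abelian.GrothendieckCategory.EnoughInjectives
import Mathlib.CategoryTheory.Preadditive.Injective.Preserves
import Mathlib.CategoryTheory.Abelian.GrothendieckAxioms.Colim
import Mathlib.CategoryTheory.Abelian.GrothendieckAxioms.Basic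

set_option linter.style.haveILetI false

/-!
# Bounded below injective resolutions of diagrams of complexes
-/

universe w v u

open CategoryTheory CategoryTheory.Limits HomologicalComplex

namespace Groth.Agent.RpushColim

variable {A : Type u} [Category.{v} A] [Abelian A] [IsGrothendieckAbelian.{v} A]
  {J : Type v} [SmallCategory J]

instance hasSeparator_diagrams : HasSeparator (J ⥤ A) :=
  haveI : HasSeparator ((Jᵒᵖ)ᵒᵖ ⥤ A) := Presheaf.hasSeparator Jᵒᵖ A
  HasSeparator.of_equivalence (opOpEquivalence J).congrLeft

instance isGrothendieckAbelian_diagrams : IsGrothendieckAbelian.{v} (J ⥤ A) where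
  ab5OfSize := ⟨fun _ _ _ => inferInstance⟩

lemma injective_obj (I : J ⥤ A) [Injective I] (j : J) : Injective (I.obj j) := by
  haveI : (evaluationLeftAdjoint A j).PreservesMonomorphisms := ⟨fun {M N} f _ => by
    haveI : ∀ t : J, Mono (((evaluationLeftAdjoint A j).map f).app t) := fun t => by
      show Mono (Limits.Sigma.map fun _ : (j ⟶ t) => f)
      haveI : HasExactColimitsOfShape (Discrete (j ⟶ t)) A := inferInstance
      haveI : Mono (Discrete.natTrans (F := Discrete.functor fun _ : (j ⟶ t) => M)
          (G := Discrete.functor fun _ : (j ⟶ t) => N) fun _ => f) :=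
        haveI : ∀ k, Mono ((Discrete.natTrans (F := Discrete.functor fun _ : (j ⟶ t) => M)
          (G := Discrete.functor fun _ : (j ⟶ t) => N) fun _ => f).app k) := fun _ => ‹Mono f›
        NatTrans.mono_of_mono_app _
      exact (colim (J := Discrete (j ⟶ t)) (C := A)).map_mono _
    exact NatTrans.mono_of_mono_app _⟩
  exact Injective.injective_of_adjoint (evaluationAdjunctionRight A j) I

/-- A diagram of complexes, as a complex of diagrams. -/
@[simps]
noncomputable def toCxFun (C : J ⥤ CochainComplex A ℤ) : CochainComplex (J ⥤ A) ℤ where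
  X n := C ⋙ HomologicalComplex.eval A (ComplexShape.up ℤ) n
  d m n :=
    { app := fun t => (C.obj t).d m n
      naturality := fun _ _ f => (C.map f).comm m n }
  shape m n h := by ext t; exact (C.obj t).shape m n h
  d_comp_d' _ _ _ _ _ := by ext t; exact (C.obj t).d_comp_d _ _ _

/-- Uniformly bounded below diagrams of complexes have injective resolutions. -/
theorem exists_resolution (C : J ⥤ CochainComplex A ℤ) (n : ℤ) (hC : ∀ j, (C.obj j).IsGE n) :
    ∃ (K : J ⥤ CochainComplex A ℤ) (α : C ⟶ K), ∀ j, QuasiIso (α.app j) ∧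
      (K.obj j).IsStrictlyGE n ∧ ∀ m, Injective ((K.obj j).X m) := by
  let e := ComplexShape.embeddingUpIntGE n
  let C' := C ⋙ e.truncGEFunctor A
  let β : C ⟶ C' := Functor.whiskerLeft C (e.πTruncGENatTrans A)
  haveI : ∀ j, CochainComplex.IsStrictlyGE (C'.obj j) n := fun j =>
    inferInstanceAs ((HomologicalComplex.truncGE (C.obj j) e).IsStrictlySupported e)
  haveI : (toCxFun C').IsStrictlyGE n := (CochainComplex.isStrictlyGE_iff _ n).2 fun m hm =>
    Functor.isZero _ fun j => CochainComplex.isZero_of_isStrictlyGE (C'.obj j) n m hm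
  obtain ⟨L, s, hL, hinj, -, hs⟩ := TriCat.exists_quasiIso_resolution (A := J ⥤ A) Injective
    ⟨_, isZero_zero (J ⥤ A), IsZero.injective (isZero_zero _)⟩
    (fun M => ⟨Injective.under M, Injective.ι M, inferInstance, inferInstance⟩) (toCxFun C') n
  haveI := hL
  let γ : C' ⟶ L.asFunctor :=
    { app := fun t => (((evaluation J A).obj t).mapHomologicalComplex (ComplexShape.up ℤ)).map s
      naturality := fun t t' g => by
        ext m
        exact (s.f m).naturality g }
  refine ⟨L.asFunctor, β ≫ γ, fun j => ⟨?_, ?_, fun m => ?_⟩⟩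
  · haveI : QuasiIso (β.app j) := (CochainComplex.quasiIso_πTruncGE_iff (C.obj j) n).2 (hC j)
    haveI : QuasiIso (γ.app j) :=
      ((HomologicalComplex.quasiIso_iff_evaluation s).1 hs j)
    exact quasiIso_comp (β.app j) (γ.app j)
  · exact (CochainComplex.isStrictlyGE_iff _ n).2 fun m hm =>
      (Functor.isZero_iff _).1 (CochainComplex.isZero_of_isStrictlyGE L n m hm) j
  · haveI := hinj m
    exact injective_obj (L.X m) j

end Groth.Agent.RpushColim
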